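import Groth.Agent.An.H894.DegZero
import Groth.Agent.An.H895.FinTransfer
import Groth.Agent.An.H895.Dev
import Groth.Agent.An.H4.CurveEmbedSC
import Groth.Agent.An.H4.ColimT2Cl
import Groth.Agent.S4224
import Groth.Agent.S4205
import Groth.Agent.S4209
import Groth.Agent.S4210

/-!
# The comparison theorem on proper schemes of dimension at most one

* `colimRep`: `H^q(X(ℂ), -)` commutes with filtered colimits for `X` proper over `ℂ`;
* `hc_bijective_curve`: `Hcmp X F q` is bijective for `X` proper over `ℂ` of dimension `≤ 1` and `F`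
  constructible killed by a power of a prime;
* `subsingleton_kernel`: `H^q(X(ℂ), ε^* (J[ℓ])) = 0` for `J` injective and `q > 0`, same `X`;
* `bijective_unit_of_isTorsion`: `F(X) → (ε^* F)(X(ℂ))` is bijective for `X` proper over `ℂ` and `F`
  torsion.
-/

set_option autoImplicit false

open CategoryTheory CategoryTheory.Limits AlgebraicGeometry Opposite CategoryTheory.Abelian
open TopologicalSpace

namespace Groth.Agent.An.H894.Curve

open Groth.Agent.Sga4B Groth.Agent.An.H894.FormalEnd Groth.Agent.An.H885.EpsGerm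

attribute [local instance 3000] hasSheafify hasExt hasSheafifyCl hasExtCl
attribute [local instance 5000] additive_epsPull

section Abstract

universe w₁ v₁ u₁

variable {C : Type u₁} [Category.{v₁} C] [Abelian C] [HasExt.{w₁} C]

/-- `Ext^(q+1)(A, J[m]) = 0` for `J` injective and `m` a non-zero-divisor on `A`. -/
theorem subsingleton_ext_kernel (m : ℕ) (A : C) [Mono (m • 𝟙 A)] (J : C) [Injective J]
    (hepi : Epi (m • 𝟙 J)) (q : ℕ) :
    Subsingleton (Ext.{w₁} A (kernel (m • 𝟙 J)) (q + 1)) := by
  let S' : ShortComplex C := ShortComplex.mk (kernel.ι (m • 𝟙 J)) (m • 𝟙 J) (kernel.condition _)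
  have hS' : S'.ShortExact :=
    { exact := ShortComplex.exact_kernel (m • 𝟙 J)
      mono_f := inferInstanceAs (Mono (kernel.ι _))
      epi_g := hepi }
  refine subsingleton_of_forall_eq 0 fun x => ?_
  have hx : x.comp (Ext.mk₀ S'.f) (add_zero (q + 1)) = 0 :=
    Ext.eq_zero_of_injective (I := J) _
  obtain ⟨y, rfl⟩ := Ext.covariant_sequence_exact₁ A hS' x hx (n₀ := q) rfl
  obtain ⟨z, hz⟩ : ∃ z : Ext.{w₁} A J q, z.comp (Ext.mk₀ S'.g) (add_zero q) = y := by
    cases q with
    | zero =>
      obtain ⟨f, rfl⟩ := (Ext.mk₀_bijective A J).2 y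
      obtain ⟨g, hg⟩ := ExtCmp.exists_nsmul_eq m f
      refine ⟨Ext.mk₀ g, ?_⟩
      rw [Ext.mk₀_comp_mk₀]
      congr 1
      change g ≫ (m • 𝟙 J) = f
      rw [Preadditive.comp_nsmul, Category.comp_id, hg]
    | succ q =>
      refine ⟨0, ?_⟩
      rw [Ext.zero_comp]
      exact (Ext.eq_zero_of_injective (I := J) y).symm
  rw [← hz, Ext.comp_assoc_of_second_deg_zero, hS'.comp_extClass, Ext.comp_zero]

end Abstract

section Proper

variable (X : Scheme.{0}) [X.Over An.SC] [IsProper (X ↘ An.SC)]

theorem isNoetherian : IsNoetherian X := by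
  have h1 : IsLocallyNoetherian X := LocallyOfFiniteType.isLocallyNoetherian (X ↘ An.SC)
  have h2 : CompactSpace X := QuasiCompact.compactSpace_of_compactSpace (X ↘ An.SC)
  exact { }

/-- Cohomology of the complex points of a proper scheme commutes with filtered colimits. -/
theorem colimRep [Fact An.EtaleLH] (q : ℕ) : ColimRep (An.Pts X) q := by
  obtain ⟨h1, h2⟩ := (Groth.Agent.S4205.result X).1 inferInstance
  exact ColimRep.of_preserves _ _ fun J _ _ => H4.ColimT2Cl.preservesColimitsOfShape_HF _ J q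

end Proper

section Const

variable {X : Scheme.{0}} [X.Over An.SC] [LocallyOfFiniteType (X ↘ An.SC)]
  [Fact An.EtaleLH] [An.EpsCont X] [PreservesFiniteLimits (An.epsPull X)]

/-- Finite direct images of finite constant sheaves on schemes smooth over `ℂ` of dimension at most
one. -/
theorem hc_push_const {C : Scheme.{0}} (p : C ⟶ X) [IsFinite p] [Smooth (p ≫ (X ↘ An.SC))]
    (hdim : topologicalKrullDim C ≤ 1) (M : Type) [AddCommGroup M] [Finite M] (q : ℕ) :
    Function.Bijective (hc X ((EtCoh.push p).obj (EtCoh.const C M)) q) := by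
  letI : C.Over An.SC := ⟨p ≫ (X ↘ An.SC)⟩
  haveI : p.IsOver An.SC := ⟨rfl⟩
  haveI : Smooth (C ↘ An.SC) := ‹Smooth (p ≫ (X ↘ An.SC))›
  haveI : An.EpsCont C := Groth.Agent.S4209.result C
  haveI : PreservesFiniteLimits (An.epsPull C) := Groth.Agent.S4210.result C
  have h := H877.Asm4224.hcmpConst_bijective C hdim (Groth.Agent.S4224.van2 (An.Pts C)) M q
  rw [H888.Collapse.hcmpConst_bijective_iff] at h
  rw [← Hcmp_eq_hc]
  exact H895.FinTransfer.hcmp_push p _ q h

/-- Surjectivity in degree zero for finite direct images of finite constant sheaves. -/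
theorem surjective_hc_zero_push_const {C : Scheme.{0}} (p : C ⟶ X) [IsFinite p]
    (M : Type) [AddCommGroup M] [Finite M] :
    Function.Surjective (hc X ((EtCoh.push p).obj (EtCoh.const C M)) 0) := by
  letI : C.Over An.SC := ⟨p ≫ (X ↘ An.SC)⟩
  haveI : p.IsOver An.SC := ⟨rfl⟩
  haveI : LocallyOfFiniteType (C ↘ An.SC) :=
    inferInstanceAs (LocallyOfFiniteType (p ≫ (X ↘ An.SC)))
  haveI : An.EpsCont C := Groth.Agent.S4209.result C
  haveI : PreservesFiniteLimits (An.epsPull C) := Groth.Agent.S4210.result C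
  have h1 : IsIso ((An.epsAdj C).unit.app (EtCoh.const C M)) :=
    H885.EpsUnit.isIso_unit C _ (H885.EpsUnit.isLC_of_isFiniteLocallyConstant C _
      (Groth.Agent.Etrest.ConstBasic.isFiniteLocallyConstant_const C M))
  have h2 : Function.Bijective
      (((An.epsAdj C).unit.app (EtCoh.const C M)).hom.app (op (EtCoh.top C))) := by
    have : IsIso ((sheafToPresheaf _ _ ⋙ (evaluation _ _).obj (op (EtCoh.top C))).map
      ((An.epsAdj C).unit.app (EtCoh.const C M))) := inferInstance
    exact (ConcreteCategory.isIso_iff_bijective _).1 this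
  have h3 := (hc_zero_bijective _ h2).2
  rw [← Hcmp_eq_hc] at h3 ⊢
  exact H895.FinTransfer.surjective_hcmp_push p _ 0 h3

end Const

section DegZero

variable (X : Scheme.{0}) [X.Over An.SC] [IsProper (X ↘ An.SC)]
  [Fact An.EtaleLH] [An.EpsCont X]

/-- **Degree zero of the comparison theorem**: for `X` proper over `ℂ` and `F` torsion the map
`F(X) → (ε^* F)(X(ℂ))` is bijective. -/
theorem bijective_unit_of_isTorsion (F : EtCoh.Ab X) (hF : EtCoh.IsTorsion F) :
    Function.Bijective (((An.epsAdj X).unit.app F).hom.app (op (EtCoh.top X))) := by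
  have : IsNoetherian X := isNoetherian X
  have : PreservesFiniteLimits (An.epsPull X) := Groth.Agent.S4210.result X
  exact DegZero.unit_bijective_of_hc X F (DegZero.bijective_hc_zero_of_torsion X (colimRep X 0)
    (fun Y p _ M _ _ => surjective_hc_zero_push_const p M) F hF)

theorem bijective_eta_of_isTorsion (F : EtCoh.Ab X) (hF : EtCoh.IsTorsion F) :
    Function.Bijective (eta X F (EtCoh.top X)) :=
  bijective_unit_of_isTorsion X F hF

end DegZero

section Theta

/-- **Degree zero of proper base change to the classical topology**: for `f` proper and `F` torsion,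
`(f_* F)^an = f(ℂ)_* F^an`. -/
theorem isIso_theta_of_isTorsion {X S : Scheme.{0}} [X.Over An.SC] [S.Over An.SC] (f : X ⟶ S)
    [f.IsOver An.SC] [LocallyOfFiniteType (X ↘ An.SC)] [LocallyOfFiniteType (S ↘ An.SC)]
    [Fact An.EtaleLH] [An.EpsCont X] [An.EpsCont S] [IsProper f] (F : EtCoh.Ab X)
    (hF : EtCoh.IsTorsion F) : IsIso ((H890.Theta.theta f).app F) :=
  H890.FibreRed.isIso_theta_of_fibres f F fun s => bijective_eta_of_isTorsion _ _
    (Etcore.Torsion.isTorsion_pull (H890.FibreRed.fibι f s) F hF)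

end Theta

section Curve

variable (X : Scheme.{0}) [X.Over An.SC] [IsProper (X ↘ An.SC)]
  [Fact An.EtaleLH] [An.EpsCont X] [PreservesFiniteLimits (An.epsPull X)]

omit [IsProper (X ↘ An.SC)] [X.Over An.SC] [Fact An.EtaleLH] [An.EpsCont X]
  [PreservesFiniteLimits (An.epsPull X)] in
theorem cons_biproduct {K : Type} [Fintype K] (G : K → EtCoh.Ab X)
    (h : ∀ i, EtPBC.IsConstructible (G i)) : EtPBC.IsConstructible (⨁ G) :=
  (H895.Consts.cons X).prop_of_iso (biproduct.isoProduct G).symm
    ((H895.Consts.cons X).prop_product h)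

omit [IsProper (X ↘ An.SC)] [X.Over An.SC] [Fact An.EtaleLH] [An.EpsCont X]
  [PreservesFiniteLimits (An.epsPull X)] in
/-- Dimension of a scheme isomorphic to `Spec ℂ`. -/
theorem dim_le_of_isIso {C : Scheme.{0}} (f : C ⟶ An.SC) [IsIso f] :
    topologicalKrullDim C ≤ 1 := by
  rw [Flat2D.FibreDimSch.topologicalKrullDim_eq_of_iso (asIso f)]
  have h1 : topologicalKrullDim An.SC = ringKrullDim ℂ :=
    PrimeSpectrum.topologicalKrullDim_eq_ringKrullDim _
  rw [h1, ringKrullDim_eq_zero_of_field]
  exact zero_le_one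

/-- The comparison theorem for constructible sheaves killed by a power of a prime on proper schemes
of dimension at most one. -/
theorem hc_bijective_curve (hdim : topologicalKrullDim X ≤ 1) (l : ℕ) (hl : l.Prime)
    (F : EtCoh.Ab X) (hF : EtPBC.IsConstructible F) (ν : ℕ) (hν : l ^ ν • 𝟙 F = 0) (q : ℕ) :
    Function.Bijective (hc X F q) := by
  refine H895.Dev.bijective_of_embedding (An.epsPull X) (An.epsPullConst X ℤ).inv
    (fun F : EtCoh.Ab X => EtPBC.IsConstructible F ∧ ∃ ν : ℕ, l ^ ν • 𝟙 F = 0)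
    (fun F hF => ?_) q F ⟨hF, ν, hν⟩
  obtain ⟨hF, ν, hν⟩ := hF
  obtain ⟨K, hK, C, p, hp, r, e, hr, j, h1, h2, N, hN⟩ :=
    H4.CurveEmbedSC.exists_curve_embedding X hdim F hF l hl ν hν
  have hfin : ∀ k, Finite (ZMod (r k ^ e k)) := fun k => by
    have : NeZero (r k ^ e k) := ⟨pow_ne_zero _ (by rw [hr k]; exact hl.ne_zero)⟩
    infer_instance
  have hcons : EtPBC.IsConstructible
      (⨁ fun k => (EtCoh.push (p k)).obj (EtCoh.const (C k) (ZMod (r k ^ e k)))) := by
    refine cons_biproduct X _ fun k => ?_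
    have := hp k
    have : IsNoetherian X := isNoetherian X
    have : LocallyOfFinitePresentation (p k) := inferInstance
    exact EtpbcA.FinPush.isConstructible_push (p k) _
      (Etrest.ConstBasic.isConstructible_const (C k) (ZMod (r k ^ e k)))
  have hdimC : ∀ k, topologicalKrullDim (C k) ≤ 1 := fun k => by
    obtain ⟨-, -, -, h | h⟩ := h1 k
    · exact h.le
    · exact dim_le_of_isIso (p k ≫ (X ↘ An.SC))
  have hb : ∀ k q, Function.Bijective (hc X ((EtCoh.push (p k)).obj
      (EtCoh.const (C k) (ZMod (r k ^ e k)))) q) := fun k q => by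
    have := hp k
    have := (h1 k).2.2.1
    exact hc_push_const (p k) (hdimC k) _ q
  refine ⟨ShortComplex.mk j (cokernel.π j) (cokernel.condition j),
    { exact := ShortComplex.exact_cokernel j, mono_f := h2, epi_g := by dsimp; infer_instance },
    rfl, ⟨EtpbcA.ConsExact.isConstructible_cokernel j hF hcons, N, ?_⟩, fun q => ⟨?_, ?_⟩⟩
  · exact ExtCmp.nsmul_eq_zero_of_epi (l ^ N) (cokernel.π j) hN
  · exact ExtCmp.injective_biproduct (An.epsPull X) (An.epsPullConst X ℤ).inv _ q
      fun k => (hb k q).1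
  · exact ExtCmp.surjective_biproduct (An.epsPull X) (An.epsPullConst X ℤ).inv _ q
      fun k => (hb k q).2

/-- **(b0)** for proper schemes of dimension at most one. -/
theorem subsingleton_kernel (hdim : topologicalKrullDim X ≤ 1) (J : EtCoh.Ab X) [Injective J]
    (l : ℕ) (hl : l.Prime) (q : ℕ) (hq : 0 < q) :
    Subsingleton (Ext.{1} (An.Cl.const (An.Pts X) ℤ)
      ((An.epsPull X).obj (kernel (l • 𝟙 J))) q) := by
  have : IsNoetherian X := isNoetherian X
  have hmono := TorsionFree.mono_nsmul_const X l hl.ne_zero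
  have hepi : Epi (l • 𝟙 J) := by
    obtain ⟨P, π, hπ, hP⟩ :=
      TorsionFree.exists_torsionFree_cover X.smallEtaleTopology l hl.ne_zero J
    exact ExtCmp.epi_nsmul_of_injective l π
  have hk : l • 𝟙 (kernel (l • 𝟙 J)) = 0 := by
    rw [← cancel_mono (kernel.ι (l • 𝟙 J)), zero_comp, Preadditive.nsmul_comp, Category.id_comp]
    have := kernel.condition (l • 𝟙 J)
    rwa [Preadditive.comp_nsmul, Category.comp_id] at this
  obtain ⟨I, _, _, D, c, hcol, hD, ⟨e⟩⟩ := EtpbcA.TorsionColim.exists_filtered_of_killedBy hl.pos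
    (kernel (l • 𝟙 J)) ((TorsionFree.killedBy_iff l _).2 hk)
  have hs : Function.Surjective (hc X (kernel (l • 𝟙 J)) q) :=
    ExtCmp.surjective_of_iso (An.epsPull X) _ e q (surjective_colim hcol q (colimRep X q)
      fun j => (hc_bijective_curve X hdim l hl (D.obj j) (hD j).1 1 (by
        rw [pow_one]; exact (TorsionFree.killedBy_iff l _).1 (hD j).2) q).2)
  have h0 : Subsingleton (Ext.{1} (EtCoh.const X ℤ) (kernel (l • 𝟙 J)) q) := by
    obtain ⟨q, rfl⟩ := Nat.exists_eq_succ_of_ne_zero hq.ne'
    exact subsingleton_ext_kernel l (EtCoh.const X ℤ) J hepi q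
  refine subsingleton_of_forall_eq 0 fun x => ?_
  obtain ⟨y, rfl⟩ := hs x
  rw [Subsingleton.elim y 0, map_zero]

end Curve

end Groth.Agent.An.H894.Curve
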