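import Groth.Agent.An.H890.AcyFinal
import Groth.Agent.An.H894.Curve
import Groth.Agent.EtpbcB.FinP1Geom

/-!
# The two inputs of the comparison theorem for proper morphisms

* `degZero`: the degree zero comparison for proper schemes over `ℂ`;
* `acyP1`: acyclicity of `ε^* (J[ℓ])` for the projective line over `ℂ`;
* `subsingleton_kernel`: `H^q(X(ℂ), ε^* (J[ℓ])) = 0` for `X` proper over `ℂ`, `J` injective, `q > 0`.
-/

set_option autoImplicit false
attribute [-instance] AlgebraicGeometry.specOverSpec

open CategoryTheory CategoryTheory.Limits AlgebraicGeometry Opposite TopologicalSpace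
open CategoryTheory.Abelian

namespace Groth.Agent.An.H894.Inputs

open Groth.Agent.An.H890.AcyFinal Groth.Agent.An.H890.Acy Groth.Agent.An.H894.FormalEnd
open Groth.Agent.EtpbcB.NKill

variable [Fact An.EtaleLH]

/-- The degree zero comparison for proper schemes over `ℂ`. -/
theorem degZero : DegZero := fun Z _ _ _ _ F hF => Curve.bijective_eta_of_isTorsion Z F hF

/-- Acyclicity for the projective line. -/
theorem acyP1 : AcyP1 := by
  have hP : IsProper (CohB1.ProjSpaceOver 1 An.SC ↘ An.SC) := isProper_toBase An.SC
  have hE : PreservesFiniteLimits (An.epsPull (CohB1.ProjSpaceOver 1 An.SC)) :=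
    Groth.Agent.S4210.result _
  refine acy_of_H _ fun J hJ l hl q hq => ?_
  exact Curve.subsingleton_kernel (CohB1.ProjSpaceOver 1 An.SC)
    (EtpbcB.FinP1Geom.dim_le ℂ 1) J l hl q hq

end Groth.Agent.An.H894.Inputs
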