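import Groth.Agent.Sga4B.ExtCmpTools
import Mathlib.CategoryTheory.Abelian.Basic
import Mathlib.Data.Nat.Factorization.Induction

/-!
# Abstract end of the comparison theorem

`Φ : C ⥤ D` exact, `b : B ⟶ Φ A`.  If the comparison map `Ext^0(A, F) → Ext^0(B, Φ F)` is bijective
for all `F` killed by `m`, and `Ext^q(B, Φ (J[ℓ])) = 0` for `J` injective, `ℓ` prime and `q > 0`, then
the comparison maps are bijective in all degrees for every `F` killed by some `m ≠ 0`.
-/

set_option autoImplicit false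

universe w₁ w₂ v₁ v₂ u₁ u₂

open CategoryTheory CategoryTheory.Limits CategoryTheory.Abelian

namespace Groth.Agent.An.H894.AbsEnd

open Groth.Agent.Sga4B Groth.Agent.Sga4B.ExtCmp

section Kernel

variable {C : Type u₁} [Category.{v₁} C] [Abelian C]

/-- The map `J[a b] → J[b]`, multiplication by `a`. -/
noncomputable def mulMap (a b : ℕ) (J : C) :
    kernel ((a * b) • 𝟙 J) ⟶ kernel (b • 𝟙 J) :=
  kernel.lift _ (kernel.ι _ ≫ (a • 𝟙 J)) (by
    have := kernel.condition ((a * b) • 𝟙 J)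
    rw [mul_comm, mul_nsmul] at this
    simpa [Preadditive.comp_nsmul, smul_smul, mul_comm] using kernel.condition ((a * b) • 𝟙 J))

/-- The inclusion `J[a] → J[a b]`. -/
noncomputable def incl (a b : ℕ) (J : C) :
    kernel (a • 𝟙 J) ⟶ kernel ((a * b) • 𝟙 J) :=
  kernel.lift _ (kernel.ι _) (by
    have h : (a * b) • 𝟙 J = (a • 𝟙 J) ≫ (b • 𝟙 J) := by
      rw [Preadditive.comp_nsmul, Category.comp_id, smul_smul, mul_comm]
    rw [h, kernel.condition_assoc, zero_comp])

theorem incl_ι (a b : ℕ) (J : C) : incl a b J ≫ kernel.ι _ = kernel.ι _ := kernel.lift_ι _ _ _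

theorem mulMap_ι (a b : ℕ) (J : C) :
    mulMap a b J ≫ kernel.ι _ = kernel.ι _ ≫ (a • 𝟙 J) := kernel.lift_ι _ _ _

theorem incl_mulMap (a b : ℕ) (J : C) : incl a b J ≫ mulMap a b J = 0 := by
  rw [← cancel_mono (kernel.ι _), Category.assoc, mulMap_ι, ← Category.assoc, incl_ι,
    kernel.condition, zero_comp]

theorem isPullback_mulMap (a b : ℕ) (J : C) :
    IsPullback (kernel.ι ((a * b) • 𝟙 J)) (mulMap a b J) (a • 𝟙 J) (kernel.ι (b • 𝟙 J)) := by
  refine ⟨⟨(mulMap_ι a b J).symm⟩, ⟨PullbackCone.IsLimit.mk _ (fun s => kernel.lift _ s.fst ?_)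
    ?_ ?_ ?_⟩⟩
  · have h : (a * b) • 𝟙 J = (a • 𝟙 J) ≫ (b • 𝟙 J) := by
      rw [Preadditive.comp_nsmul, Category.comp_id, smul_smul, mul_comm]
    rw [h, ← Category.assoc, s.condition, Category.assoc, kernel.condition, comp_zero]
  · intro s
    exact kernel.lift_ι _ _ _
  · intro s
    rw [← cancel_mono (kernel.ι (b • 𝟙 J)), Category.assoc, mulMap_ι, kernel.lift_ι_assoc,
      s.condition]
  · intro s m h1 _
    rw [← cancel_mono (kernel.ι ((a * b) • 𝟙 J)), h1, kernel.lift_ι]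

theorem epi_mulMap (a b : ℕ) (J : C) [Epi (a • 𝟙 J)] : Epi (mulMap a b J) :=
  Abelian.epi_snd_of_isLimit _ _ (isPullback_mulMap a b J).isLimit

theorem mono_incl (a b : ℕ) (J : C) : Mono (incl a b J) := by
  have : Mono (incl a b J ≫ kernel.ι _) := by rw [incl_ι]; infer_instance
  exact mono_of_mono _ (kernel.ι _)

theorem shortExact_mul (a b : ℕ) (J : C) [Epi (a • 𝟙 J)] :
    (ShortComplex.mk (incl a b J) (mulMap a b J) (incl_mulMap a b J)).ShortExact := by
  have h1 := mono_incl a b J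
  have h2 := epi_mulMap a b J
  refine ShortComplex.ShortExact.mk' ?_ h1 h2
  refine ShortComplex.exact_of_f_is_kernel _ (KernelFork.IsLimit.ofι _ _
    (fun {Z} k hk => kernel.lift _ (k ≫ kernel.ι _) ?_) ?_ ?_)
  · change k ≫ mulMap a b J = 0 at hk
    rw [Category.assoc, ← mulMap_ι, ← Category.assoc, hk, zero_comp]
  · intro Z k hk
    rw [← cancel_mono (kernel.ι ((a * b) • 𝟙 J)), Category.assoc, incl_ι, kernel.lift_ι]
  · intro Z k hk m hm
    rw [← cancel_mono (kernel.ι (a • 𝟙 J)), kernel.lift_ι, ← hm, Category.assoc, incl_ι]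

end Kernel

section Main

variable {C : Type u₁} [Category.{v₁} C] [Abelian C] [HasExt.{w₁} C]
variable {D : Type u₂} [Category.{v₂} D] [Abelian D] [HasExt.{w₂} D]
variable (Φ : C ⥤ D) [Φ.Additive] [PreservesFiniteLimits Φ] [PreservesFiniteColimits Φ]

theorem subsingleton_mid {S : ShortComplex D} (hS : S.ShortExact) (B : D) (q : ℕ)
    (h1 : Subsingleton (Ext.{w₂} B S.X₁ q)) (h3 : Subsingleton (Ext.{w₂} B S.X₃ q)) :
    Subsingleton (Ext.{w₂} B S.X₂ q) := by
  refine subsingleton_of_forall_eq 0 fun x => ?_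
  obtain ⟨y, rfl⟩ := Ext.covariant_sequence_exact₂ B hS x (Subsingleton.elim _ _)
  rw [Subsingleton.elim y 0, Ext.zero_comp]

theorem subsingleton_kernel_mul (a b : ℕ) (J : C) [Epi (a • 𝟙 J)] (B : D) (q : ℕ)
    (h1 : Subsingleton (Ext.{w₂} B (Φ.obj (kernel (a • 𝟙 J))) q))
    (h2 : Subsingleton (Ext.{w₂} B (Φ.obj (kernel (b • 𝟙 J))) q)) :
    Subsingleton (Ext.{w₂} B (Φ.obj (kernel ((a * b) • 𝟙 J))) q) :=
  subsingleton_mid ((shortExact_mul a b J).map_of_exact Φ) B q h1 h2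

/-- From prime torsion to `m`-torsion. -/
theorem subsingleton_kernel (J : C) (hJ : ∀ m : ℕ, m ≠ 0 → Epi (m • 𝟙 J)) (B : D) (q : ℕ)
    (h : ∀ l : ℕ, l.Prime → Subsingleton (Ext.{w₂} B (Φ.obj (kernel (l • 𝟙 J))) q)) (m : ℕ)
    (hm : m ≠ 0) : Subsingleton (Ext.{w₂} B (Φ.obj (kernel (m • 𝟙 J))) q) := by
  induction m using Nat.recOnMul with
  | zero => exact absurd rfl hm
  | one =>
    have h0 : IsZero (kernel ((1 : ℕ) • 𝟙 J)) := by
      rw [one_nsmul]
      exact isZero_kernel_of_mono (𝟙 J)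
    refine subsingleton_of_forall_eq 0 fun x => ?_
    have h1 : IsZero (Φ.obj (kernel ((1 : ℕ) • 𝟙 J))) := Φ.map_isZero h0
    rw [← Ext.comp_mk₀_id x, h1.eq_of_src (𝟙 _) 0, Ext.mk₀_zero, Ext.comp_zero]
  | prime p hp => exact h p hp
  | mul a b iha ihb =>
    have ha : a ≠ 0 := left_ne_zero_of_mul hm
    have hb : b ≠ 0 := right_ne_zero_of_mul hm
    have := hJ a ha
    exact subsingleton_kernel_mul Φ a b J B q (iha ha) (ihb hb)

variable [EnoughInjectives C]

/-- Every object killed by `m` embeds into `J[m]`, `J` injective, with `m`-torsion quotient and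
`J[m]` acyclic for `Ext A -`. -/
theorem exists_embedding (m : ℕ) (A : C) [Mono (m • 𝟙 A)]
    (hcov : ∀ J : C, ∃ (P : C) (π : P ⟶ J), Epi π ∧ Mono (m • 𝟙 P)) (F : C)
    (hF : m • 𝟙 F = 0) :
    ∃ (S : ShortComplex C) (_ : S.ShortExact) (_ : S.X₁ = F) (J : C) (_ : Injective J)
      (_ : S.X₂ = kernel (m • 𝟙 J)), m • 𝟙 S.X₂ = 0 ∧
      m • 𝟙 S.X₃ = 0 ∧ ∀ q : ℕ, Subsingleton (Ext.{w₁} A S.X₂ (q + 1)) := by
  let J : C := Injective.under F
  let i : F ⟶ J := Injective.ι F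
  obtain ⟨P, π, hπ, hP⟩ := hcov J
  have hepi : Epi (m • 𝟙 J) := epi_nsmul_of_injective m π
  let K : C := kernel (m • 𝟙 J)
  have hi : i ≫ (m • 𝟙 J) = 0 := by
    rw [Preadditive.comp_nsmul, Category.comp_id, ← Category.id_comp i, ← Preadditive.nsmul_comp,
      hF, zero_comp]
  let k : F ⟶ K := kernel.lift (m • 𝟙 J) i hi
  have hk : k ≫ kernel.ι (m • 𝟙 J) = i := kernel.lift_ι _ _ _
  have hk' : Mono k := by
    have : Mono (k ≫ kernel.ι (m • 𝟙 J)) := by rw [hk]; infer_instance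
    exact mono_of_mono k (kernel.ι (m • 𝟙 J))
  have hK : m • 𝟙 K = 0 := by
    rw [← cancel_mono (kernel.ι (m • 𝟙 J)), zero_comp, Preadditive.nsmul_comp, Category.id_comp]
    have := kernel.condition (m • 𝟙 J)
    rwa [Preadditive.comp_nsmul, Category.comp_id] at this
  let S' : ShortComplex C := ShortComplex.mk (kernel.ι (m • 𝟙 J)) (m • 𝟙 J) (kernel.condition _)
  have hS' : S'.ShortExact :=
    { exact := ShortComplex.exact_kernel (m • 𝟙 J)
      mono_f := inferInstanceAs (Mono (kernel.ι _))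
      epi_g := hepi }
  have hac : ∀ q : ℕ, Subsingleton (Ext.{w₁} A K (q + 1)) := by
    intro q
    refine subsingleton_of_forall_eq 0 fun x => ?_
    have hx : x.comp (Ext.mk₀ S'.f) (add_zero (q + 1)) = 0 :=
      Ext.eq_zero_of_injective (I := J) _
    obtain ⟨y, rfl⟩ := Ext.covariant_sequence_exact₁ A hS' x hx (n₀ := q) rfl
    obtain ⟨z, hz⟩ : ∃ z : Ext.{w₁} A J q, z.comp (Ext.mk₀ S'.g) (add_zero q) = y := by
      cases q with
      | zero =>
        obtain ⟨f, rfl⟩ := (Ext.mk₀_bijective A J).2 y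
        obtain ⟨g, hg⟩ := exists_nsmul_eq m f
        refine ⟨Ext.mk₀ g, ?_⟩
        rw [Ext.mk₀_comp_mk₀]
        congr 1
        change g ≫ (m • 𝟙 J) = f
        rw [Preadditive.comp_nsmul, Category.comp_id, hg]
      | succ q =>
        refine ⟨0, ?_⟩
        rw [Ext.zero_comp]
        exact (Ext.eq_zero_of_injective (I := J) y).symm
    rw [← hz, Ext.comp_assoc_of_second_deg_zero, hS'.comp_extClass, Ext.comp_zero]
  refine ⟨ShortComplex.mk k (cokernel.π k) (cokernel.condition k),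
    { exact := ShortComplex.exact_cokernel k
      mono_f := hk'
      epi_g := inferInstanceAs (Epi (cokernel.π _)) }, rfl, J, inferInstance, rfl, hK, ?_, hac⟩
  exact nsmul_eq_zero_of_epi m (cokernel.π k) hK

/-- **Abstract end**: bijectivity in degree `0` for objects killed by `m` and vanishing for the
torsion of injectives give bijectivity in all degrees for objects killed by `m`. -/
theorem bijective_of_killed {A : C} {B : D} (b : B ⟶ Φ.obj A) (m : ℕ) [Mono (m • 𝟙 A)]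
    (hcov : ∀ J : C, ∃ (P : C) (π : P ⟶ J), Epi π ∧ Mono (m • 𝟙 P))
    (a0 : ∀ F : C, m • 𝟙 F = 0 → Function.Bijective (cmp Φ b F 0))
    (b0 : ∀ (J : C) [Injective J] (q : ℕ),
      Subsingleton (Ext.{w₂} B (Φ.obj (kernel (m • 𝟙 J))) (q + 1)))
    (F : C) (hF : m • 𝟙 F = 0) (q : ℕ) : Function.Bijective (cmp Φ b F q) := by
  have h := devissage Φ b q (fun F => m • 𝟙 F = 0) (fun F => m • 𝟙 F = 0)
    (fun F hF => by
      obtain ⟨S, hS, h1, J, hJ, hSJ, h2, h3, h4⟩ := exists_embedding.{w₁} m A hcov F hF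
      exact ⟨S, hS, h1, h3, h2, h4⟩)
    (fun F hF => by
      obtain ⟨S, hS, h1, J, hJ, hSJ, h2, h3, h4⟩ := exists_embedding.{w₁} m A hcov F hF
      refine ⟨S, hS, h1, h3, h2, (a0 _ h2).1, fun p _ => ?_⟩
      cases p with
      | zero => exact (a0 _ h2).2
      | succ p =>
        rw [hSJ]
        have := b0 J p
        exact fun y => ⟨0, Subsingleton.elim _ _⟩)
    (fun h => h) (fun _ _ h => h) F hF
  exact h.1 q le_rfl

end Main

end Groth.Agent.An.H894.AbsEnd
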