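import Groth.Agent.An.H894.FormalEnd
import Groth.Agent.An.H895.Consts
import Groth.Agent.An.H885.EpsUnit

/-!
# Degree zero of the proper comparison theorem

For `X` Noetherian, locally of finite type over `ℂ`, with `H⁰(X(ℂ), -)` commuting with filtered
colimits, `F(X) → (ε^* F)(X(ℂ))` is bijective for every torsion sheaf `F` provided this holds
for finite direct images of finite constant sheaves.
-/

set_option autoImplicit false

open CategoryTheory CategoryTheory.Limits AlgebraicGeometry Opposite CategoryTheory.Abelian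

namespace Groth.Agent.An.H894.DegZero

open Groth.Agent.Sga4B Groth.Agent.An.H894.FormalEnd Groth.Agent.An.H885.EpsGerm

attribute [local instance 3000] hasSheafify hasExt hasSheafifyCl hasExtCl
attribute [local instance 5000] additive_epsPull

/-- Elements as homomorphisms from `ℤ`. -/
def elt {A : AddCommGrpCat.{1}} (a : A) : AddCommGrpCat.of (ULift.{1} ℤ) ⟶ A :=
  AddCommGrpCat.ofHom ((zmultiplesHom A a).comp (AddEquiv.ulift (α := ℤ)).toAddMonoidHom)

theorem elt_one {A : AddCommGrpCat.{1}} (a : A) : elt a (ULift.up (1 : ℤ)) = a := by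
  change (1 : ℤ) • a = a
  exact one_zsmul a

theorem bijective_of_comp {A B : AddCommGrpCat.{1}} (φ : A ⟶ B)
    (h : Function.Bijective (fun g : AddCommGrpCat.of (ULift.{1} ℤ) ⟶ A => g ≫ φ)) :
    Function.Bijective φ := by
  have hφ : ∀ a : A, elt a ≫ φ = elt (φ a) := by
    intro a
    ext n
    change φ (n.down • a) = n.down • φ a
    exact map_zsmul φ.hom _ _
  constructor
  · intro a a' haa
    have h1 : elt a = elt a' := h.1 (show elt a ≫ φ = elt a' ≫ φ by rw [hφ, hφ, haa])
    rw [← elt_one a, h1, elt_one]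
  · intro b
    obtain ⟨g, hg⟩ := h.2 (elt b)
    refine ⟨g (ULift.up (1 : ℤ)), ?_⟩
    have h2 : (g ≫ φ) (ULift.up (1 : ℤ)) = elt b (ULift.up (1 : ℤ)) := by
      change g ≫ φ = elt b at hg
      rw [hg]
    rw [elt_one] at h2
    exact h2

section

variable (X : Scheme.{0}) [X.Over An.SC] [LocallyOfFiniteType (X ↘ An.SC)]
    [Fact An.EtaleLH] [An.EpsCont X] [PreservesFiniteLimits (An.epsPull X)]

/-- Bijectivity on global sections from degree `0` of `hc`. -/
theorem unit_bijective_of_hc (F : EtCoh.Ab X) (h : Function.Bijective (hc X F 0)) :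
    Function.Bijective (((An.epsAdj X).unit.app F).hom.app (op (EtCoh.top X))) := by
  have h0 : Function.Bijective (fun f : EtCoh.const X ℤ ⟶ F =>
      (An.epsPullConst X ℤ).inv ≫ (An.epsPull X).map f) := by
    have h4 : (Ext.mk₀ : _ → Ext.{1} (An.Cl.const (An.Pts X) ℤ) ((An.epsPull X).obj F) 0) ∘
        (fun f : EtCoh.const X ℤ ⟶ F => (An.epsPullConst X ℤ).inv ≫ (An.epsPull X).map f) =
        (hc X F 0) ∘ (Ext.mk₀ : (EtCoh.const X ℤ ⟶ F) → _) := by
      funext f
      change Ext.mk₀ _ = (Ext.mk₀ (An.epsPullConst X ℤ).inv).comp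
        ((Ext.mk₀ f).mapExactFunctor (An.epsPull X)) (zero_add 0)
      rw [Ext.mapExactFunctor_mk₀, Ext.mk₀_comp_mk₀]
    exact (Function.Bijective.of_comp_iff' (Ext.mk₀_bijective _ _) _).1
      (h4 ▸ h.comp (Ext.mk₀_bijective _ _))
  have h1 : Function.Bijective
      (fun f : EtCoh.const X ℤ ⟶ F => f ≫ (An.epsAdj X).unit.app F) := by
    have h3 : (fun f : EtCoh.const X ℤ ⟶ F => f ≫ (An.epsAdj X).unit.app F) =
        ((An.epsAdj X).homEquiv _ _) ∘ (fun g => (An.epsPullConst X ℤ).hom ≫ g) ∘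
        (fun f : EtCoh.const X ℤ ⟶ F => (An.epsPullConst X ℤ).inv ≫ (An.epsPull X).map f) := by
      funext f
      change _ = (An.epsAdj X).homEquiv _ _ ((An.epsPullConst X ℤ).hom ≫
        ((An.epsPullConst X ℤ).inv ≫ (An.epsPull X).map f))
      rw [Iso.hom_inv_id_assoc, Adjunction.homEquiv_unit]
      exact (An.epsAdj X).unit.naturality f
    rw [h3]
    refine (Equiv.bijective _).comp (Function.Bijective.comp ⟨fun a b hab =>
      (cancel_epi _).1 hab, fun g => ⟨(An.epsPullConst X ℤ).inv ≫ g, by simp⟩⟩ h0)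
  let e := (EtCore.constAdj X).homEquiv (AddCommGrpCat.of (ULift.{1} ℤ))
  have h2 : Function.Bijective (fun g : AddCommGrpCat.of (ULift.{1} ℤ) ⟶ (EtCore.gsec X).obj F =>
      g ≫ (EtCore.gsec X).map ((An.epsAdj X).unit.app F)) := by
    have h5 : (fun g : AddCommGrpCat.of (ULift.{1} ℤ) ⟶ (EtCore.gsec X).obj F =>
        g ≫ (EtCore.gsec X).map ((An.epsAdj X).unit.app F)) =
        (e _) ∘ (fun f : EtCoh.const X ℤ ⟶ F => f ≫ (An.epsAdj X).unit.app F) ∘ (e F).symm := by
      funext g
      change _ = e _ ((e F).symm g ≫ _)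
      rw [show e _ ((e F).symm g ≫ (An.epsAdj X).unit.app F) =
        e F ((e F).symm g) ≫ (EtCore.gsec X).map ((An.epsAdj X).unit.app F) from
          Adjunction.homEquiv_naturality_right _ _ _, Equiv.apply_symm_apply]
    rw [h5]
    exact (e _).bijective.comp (h1.comp (e F).symm.bijective)
  exact bijective_of_comp _ h2

omit [PreservesFiniteLimits (An.epsPull X)] in
/-- The unit `F → ε_* ε^* F` is a monomorphism. -/
theorem mono_unit (F : EtCoh.Ab X) : Mono ((An.epsAdj X).unit.app F) := by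
  have h1 : ∀ U, Mono (((An.epsAdj X).unit.app F).hom.app U) := fun U =>
    ConcreteCategory.mono_of_injective _ (eta_injective X F U.unop)
  have h2 : Mono ((sheafToPresheaf _ _).map ((An.epsAdj X).unit.app F)) :=
    @NatTrans.mono_of_mono_app _ _ _ _ _ _ _ h1
  exact (sheafToPresheaf _ _).mono_of_mono_map h2

/-- `Hcmp` is injective in degree `0`, for all abelian sheaves. -/
theorem injective_hc_zero (F : EtCoh.Ab X) : Function.Injective (hc X F 0) := by
  rw [injective_iff_map_eq_zero]
  intro x hx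
  obtain ⟨f, rfl⟩ := (Ext.mk₀_bijective _ _).2 x
  have h1 : Ext.mk₀ ((An.epsPullConst X ℤ).inv ≫ (An.epsPull X).map f) =
      (0 : Ext.{1} (An.Cl.const (An.Pts X) ℤ) ((An.epsPull X).obj F) 0) := by
    refine Eq.trans ?_ hx
    change Ext.mk₀ _ = (Ext.mk₀ (An.epsPullConst X ℤ).inv).comp
      ((Ext.mk₀ f).mapExactFunctor (An.epsPull X)) (zero_add 0)
    rw [Ext.mapExactFunctor_mk₀, Ext.mk₀_comp_mk₀]
  have h2 : (An.epsPullConst X ℤ).inv ≫ (An.epsPull X).map f = 0 :=
    (Ext.mk₀_bijective _ _).1 (by rw [h1, Ext.mk₀_zero])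
  have h3 : (An.epsPull X).map f = 0 := by
    rw [← cancel_epi (An.epsPullConst X ℤ).inv, h2, comp_zero]
  have h4 : f ≫ (An.epsAdj X).unit.app F = 0 := by
    have h5 : f ≫ (An.epsAdj X).unit.app F =
        (An.epsAdj X).unit.app _ ≫ (An.epsPush X).map ((An.epsPull X).map f) :=
      (An.epsAdj X).unit.naturality f
    have : PreservesLimitsOfSize.{0, 0} (An.epsPush X) :=
      (An.epsAdj X).rightAdjoint_preservesLimits
    rw [h5, h3, Functor.map_zero, comp_zero]
  have := mono_unit X F
  have h6 : f = 0 := by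
    rw [← cancel_mono ((An.epsAdj X).unit.app F), h4, zero_comp]
  rw [h6, Ext.mk₀_zero]

/-- Degree `0` is surjective on constructible sheaves if it is so on finite direct images of finite
constant sheaves. -/
theorem surjective_hc_zero_of_constructible [IsNoetherian X]
    (h : ∀ (Y : Scheme.{0}) (p : Y ⟶ X) [IsFinite p] (M : Type) [AddCommGroup M] [Finite M],
      Function.Surjective (hc X ((EtCoh.push p).obj (EtCoh.const Y M)) 0))
    (F : EtCoh.Ab X) (hF : EtPBC.IsConstructible F) : Function.Surjective (hc X F 0) := by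
  obtain ⟨n, Y, f, h1, M, h3, h4, ι, hι, hc⟩ := H895.Consts.exists_embedding X F hF
  let S : ShortComplex (EtCoh.Ab X) := ShortComplex.mk ι (cokernel.π ι) (cokernel.condition ι)
  have hS : S.ShortExact :=
    { exact := ShortComplex.exact_cokernel ι, mono_f := hι, epi_g := by dsimp [S]; infer_instance }
  refine ExtCmp.surjective_zero (An.epsPull X) (An.epsPullConst X ℤ).inv hS ?_
    (injective_hc_zero X S.X₃)
  refine ExtCmp.surjective_biproduct (An.epsPull X) (An.epsPullConst X ℤ).inv _ 0 fun i => ?_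
  have := h1 i
  exact h (Y i) (f i) (M i)

/-- **Degree `0` is bijective on torsion sheaves.** -/
theorem bijective_hc_zero_of_torsion [IsNoetherian X] (hT : ColimRep (An.Pts X) 0)
    (h : ∀ (Y : Scheme.{0}) (p : Y ⟶ X) [IsFinite p] (M : Type) [AddCommGroup M] [Finite M],
      Function.Surjective (hc X ((EtCoh.push p).obj (EtCoh.const Y M)) 0))
    (F : EtCoh.Ab X) (hF : EtCoh.IsTorsion F) : Function.Bijective (hc X F 0) := by
  refine ⟨injective_hc_zero X F, ?_⟩
  obtain ⟨J, _, _, D, c, hcol, hD, ⟨e⟩⟩ := EtpbcA.TorsionColim.exists_filtered_of_isTorsion F hF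
  exact ExtCmp.surjective_of_iso (An.epsPull X) _ e 0 (surjective_colim hcol 0 hT fun j =>
    surjective_hc_zero_of_constructible X h (D.obj j) (hD j))

end

end Groth.Agent.An.H894.DegZero
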