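import Groth.Prelude.Def_AnEps
import Groth.Agent.An.H894.AbsEnd
import Groth.Agent.Sga4B.TorsionFree
import Groth.Agent.Sga4B.ColimH
import Groth.Agent.Sga4B.FinExact
import Groth.Agent.EtpbcA.TorsionColim

/-!
# Formal end of the proper comparison theorem

For `X` locally of finite type over `ℂ`, quasi-compact and quasi-separated: if
* (a0) `F(X) → (ε^* F)(X(ℂ))` is bijective for every torsion sheaf `F`,
* (b0) `H^q(X(ℂ), ε^* (J[ℓ])) = 0` for `J` injective, `ℓ` prime, `q > 0`,
* (col) cohomology of `X(ℂ)` commutes with filtered colimits,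
then `Hcmp X F q` is bijective for every torsion sheaf `F` and every `q`.
-/

set_option autoImplicit false

open CategoryTheory CategoryTheory.Limits AlgebraicGeometry Opposite CategoryTheory.Abelian

namespace Groth.Agent.An.H894.FormalEnd

open Groth.Agent.Sga4B

theorem hasSheafify {X : Scheme.{0}} :
    HasSheafify X.smallEtaleTopology AddCommGrpCat.{1} := inferInstance

attribute [local instance 3000] hasSheafify

theorem hasExt {X : Scheme.{0}} : HasExt.{1} (EtCoh.Ab X) := inferInstance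

attribute [local instance 3000] hasExt

theorem hasSheafifyCl {T : Type} [TopologicalSpace T] :
    HasSheafify (An.Cl.topology T) AddCommGrpCat.{1} := inferInstance

attribute [local instance 3000] hasSheafifyCl

theorem hasExtCl {T : Type} [TopologicalSpace T] : HasExt.{1} (An.Cl.Ab T) := inferInstance

attribute [local instance 3000] hasExtCl

/-- Additivity of `ε^*` for the preadditive structures coming from the abelian ones (this form
avoids expensive unification in the kernel). -/
theorem additive_epsPull (X : Scheme.{0}) [X.Over An.SC] [LocallyOfFiniteType (X ↘ An.SC)]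
    [Fact An.EtaleLH] [An.EpsCont X] :
    @Functor.Additive (EtCoh.Ab X) (An.Cl.Ab (An.Pts X)) _ _ Abelian.toPreadditive
      Abelian.toPreadditive (An.epsPull X) := An.epsPull_additive X

attribute [local instance 5000] additive_epsPull

variable (X : Scheme.{0}) [X.Over An.SC] [LocallyOfFiniteType (X ↘ An.SC)]
    [Fact An.EtaleLH] [An.EpsCont X] [PreservesFiniteLimits (An.epsPull X)]

/-- `Hcmp` as a comparison map on Ext, packaged with fast instances. -/
noncomputable def hc (F : EtCoh.Ab X) (q : ℕ) :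
    Ext.{1} (EtCoh.const X ℤ) F q →+
      Ext.{1} (An.Cl.const (An.Pts X) ℤ) ((An.epsPull X).obj F) q :=
  ExtCmp.cmp (An.epsPull X) (An.epsPullConst X ℤ).inv F q

/-- `Hcmp` is a comparison map on Ext. -/
theorem Hcmp_eq_hc (F : EtCoh.Ab X) (q : ℕ) : An.Hcmp X F q = hc X F q := rfl

section Colim

variable {X}
variable {J : Type 1} [SmallCategory J] [IsFiltered J]
  {D : J ⥤ EtCoh.Ab X} {c : Cocone D} (hcol : IsColimit c) (n : ℕ)

/-- Elementwise form of "cohomology of `T` commutes with filtered colimits". -/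
structure ColimRep (T : Type) [TopologicalSpace T] (n : ℕ) : Prop where
  rep : ∀ {J : Type 1} [SmallCategory J] [IsFiltered J] {D : J ⥤ An.Cl.Ab T} {c : Cocone D}
    (_ : IsColimit c) (x : Ext.{1} (An.Cl.const T ℤ) c.pt n),
    ∃ (j : J) (y : Ext.{1} (An.Cl.const T ℤ) (D.obj j) n),
      y.comp (Ext.mk₀ (c.ι.app j)) (add_zero n) = x
  zero : ∀ {J : Type 1} [SmallCategory J] [IsFiltered J] {D : J ⥤ An.Cl.Ab T} {c : Cocone D}
    (_ : IsColimit c) (j : J) (y : Ext.{1} (An.Cl.const T ℤ) (D.obj j) n)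
    (_ : y.comp (Ext.mk₀ (c.ι.app j)) (add_zero n) = 0),
    ∃ (k : J) (g : j ⟶ k), y.comp (Ext.mk₀ (D.map g)) (add_zero n) = 0

/-- From the functorial form. -/
theorem ColimRep.of_preserves (T : Type) [TopologicalSpace T] (n : ℕ)
    (h : ∀ (J : Type 1) [SmallCategory J] [IsFiltered J],
      PreservesColimitsOfShape J (An.Cl.HF T n)) : ColimRep T n where
  rep := by
    intro J _ _ D c hc x
    have := h J
    obtain ⟨j, y, hy⟩ := Concrete.isColimit_exists_rep (D ⋙ An.Cl.HF T n)
      (isColimitOfPreserves (An.Cl.HF T n) hc) x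
    exact ⟨j, y, hy⟩
  zero := by
    intro J _ _ D c hc j y hy
    have := h J
    obtain ⟨k, f, g, hk⟩ := Concrete.isColimit_exists_of_rep_eq.{1} (D ⋙ An.Cl.HF T n)
      (isColimitOfPreserves (An.Cl.HF T n) hc) (i := j) (j := j) y 0 (by
        rw [map_zero]
        exact hy)
    refine ⟨k, f, ?_⟩
    rw [map_zero] at hk
    exact hk

include hcol

variable [CompactSpace X] [QuasiSeparatedSpace X]

theorem surjective_colim (hT : ColimRep (An.Pts X) n) (hs : ∀ j, Function.Surjective
      (hc X (D.obj j) n)) : Function.Surjective (hc X c.pt n) := by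
  have hpc : PreservesColimitsOfShape J (An.epsPull X) :=
    (An.epsAdj X).leftAdjoint_preservesColimits.preservesColimitsOfShape
  exact ExtCmp.surjective_of_colim (An.epsPull X) _ (fun j => D.obj j) (fun j => c.ι.app j) n
    (fun y => hT.rep (isColimitOfPreserves (An.epsPull X) hcol) y) hs

theorem injective_colim (hT : ColimRep (An.Pts X) n) (hs : ∀ j, Function.Injective
      (hc X (D.obj j) n)) : Function.Injective (hc X c.pt n) := by
  have hpc : PreservesColimitsOfShape J (An.epsPull X) :=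
    (An.epsAdj X).leftAdjoint_preservesColimits.preservesColimitsOfShape
  have := FinExact.colimCoh X n J
  refine ExtCmp.injective_of_colim (An.epsPull X) _ (fun j => D.obj j) (fun j => c.ι.app j) n
    (fun y => ColimH.exists_rep hcol n y) (fun j z hz => ?_) hs
  obtain ⟨k, g, hg⟩ := hT.zero (isColimitOfPreserves (An.epsPull X) hcol) j z hz
  exact ⟨k, D.map g, c.w g, hg⟩

end Colim

section Zero

variable {X}

omit [PreservesFiniteLimits (An.epsPull X)] in
/-- Bijectivity on `Hom(ℤ, -)` from bijectivity on global sections. -/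
theorem bijective_comp_of_sections {F G : EtCoh.Ab X} (u : F ⟶ G)
    (h : Function.Bijective (u.hom.app (op (EtCoh.top X)))) :
    Function.Bijective (fun f : EtCoh.const X ℤ ⟶ F => f ≫ u) := by
  have hi : IsIso ((EtCore.gsec X).map u) := by
    rw [ConcreteCategory.isIso_iff_bijective]
    exact h
  let e := (EtCore.constAdj X).homEquiv (AddCommGrpCat.of (ULift.{1} ℤ))
  have h1 : (fun f : EtCoh.const X ℤ ⟶ F => f ≫ u) =
      (e G).symm ∘ (fun g => g ≫ (EtCore.gsec X).map u) ∘ e F := by
    funext f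
    change f ≫ u = (e G).symm (e F f ≫ (EtCore.gsec X).map u)
    rw [Equiv.eq_symm_apply]
    exact Adjunction.homEquiv_naturality_right _ _ _
  rw [h1]
  refine (e G).symm.bijective.comp (Function.Bijective.comp ?_ (e F).bijective)
  refine ⟨fun a b hab => (cancel_mono ((EtCore.gsec X).map u)).1 hab, fun b =>
    ⟨b ≫ inv ((EtCore.gsec X).map u), ?_⟩⟩
  simp

/-- `Hcmp` in degree `0` from global sections. -/
theorem hc_zero_bijective (F : EtCoh.Ab X)
    (h : Function.Bijective (((An.epsAdj X).unit.app F).hom.app (op (EtCoh.top X)))) :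
    Function.Bijective (hc X F 0) := by
  have h1 := bijective_comp_of_sections _ h
  -- Hom(ε^* ℤ, ε^* F)
  have h2 : Function.Bijective (fun f : EtCoh.const X ℤ ⟶ F =>
      (An.epsPullConst X ℤ).inv ≫ (An.epsPull X).map f) := by
    have h3 : (fun f : EtCoh.const X ℤ ⟶ F =>
        (An.epsPullConst X ℤ).inv ≫ (An.epsPull X).map f) =
        (fun g => (An.epsPullConst X ℤ).inv ≫ g) ∘
          ((An.epsAdj X).homEquiv _ _).symm ∘ (fun f => f ≫ (An.epsAdj X).unit.app F) := by
      funext f
      change _ ≫ (An.epsPull X).map f = _ ≫ ((An.epsAdj X).homEquiv _ _).symm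
        (f ≫ (An.epsAdj X).unit.app F)
      congr 1
      rw [Equiv.eq_symm_apply, Adjunction.homEquiv_unit]
      exact ((An.epsAdj X).unit.naturality f).symm
    rw [h3]
    refine Function.Bijective.comp ⟨fun a b hab => (cancel_epi _).1 hab, fun g =>
      ⟨(An.epsPullConst X ℤ).hom ≫ g, by simp⟩⟩ (Function.Bijective.comp (Equiv.bijective _) h1)
  have h4 : Function.Bijective ((hc X F 0) ∘ (Ext.mk₀ : (EtCoh.const X ℤ ⟶ F) → _)) := by
    have : (hc X F 0) ∘ (Ext.mk₀ : (EtCoh.const X ℤ ⟶ F) → _) =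
        (Ext.mk₀ : _ → Ext.{1} (An.Cl.const (An.Pts X) ℤ) ((An.epsPull X).obj F) 0) ∘
        (fun f : EtCoh.const X ℤ ⟶ F =>
      (An.epsPullConst X ℤ).inv ≫ (An.epsPull X).map f) := by
      funext f
      change (Ext.mk₀ (An.epsPullConst X ℤ).inv).comp ((Ext.mk₀ f).mapExactFunctor (An.epsPull X))
        (zero_add 0) = Ext.mk₀ _
      rw [Ext.mapExactFunctor_mk₀, Ext.mk₀_comp_mk₀]
    rw [this]
    exact (Ext.mk₀_bijective _ _).comp h2
  exact (Function.Bijective.of_comp_iff _ (Ext.mk₀_bijective _ _)).1 h4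

end Zero

theorem isTorsion_of_killed {F : EtCoh.Ab X} (m : ℕ) (hm : m ≠ 0) (hF : m • 𝟙 F = 0) :
    EtCoh.IsTorsion F := by
  intro U s x
  refine ⟨U, 𝟙 U, ⟨x, rfl⟩, ?_⟩
  refine isOfFinAddOrder_iff_nsmul_eq_zero.2 ⟨m, Nat.pos_of_ne_zero hm, ?_⟩
  exact (TorsionFree.killedBy_iff m F).2 hF _ _

/-- The formal end for sheaves killed by `m ≠ 0`; (a0) in terms of degree `0`. -/
theorem hc_bijective_of_killed (m : ℕ) (hm : m ≠ 0)
    (a0 : ∀ F : EtCoh.Ab X, m • 𝟙 F = 0 → Function.Bijective (hc X F 0))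
    (b0 : ∀ (J : EtCoh.Ab X) [Injective J] (l : ℕ), l.Prime → ∀ q : ℕ, 0 < q →
      Subsingleton (Ext.{1} (An.Cl.const (An.Pts X) ℤ)
        ((An.epsPull X).obj (kernel (l • 𝟙 J))) q))
    (F : EtCoh.Ab X) (hF : m • 𝟙 F = 0) (q : ℕ) : Function.Bijective (hc X F q) := by
  have hmono := TorsionFree.mono_nsmul_const X m hm
  refine AbsEnd.bijective_of_killed (An.epsPull X) (An.epsPullConst X ℤ).inv m
    (fun J => TorsionFree.exists_torsionFree_cover X.smallEtaleTopology m hm J) a0 ?_ F hF q
  intro J _ q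
  refine AbsEnd.subsingleton_kernel (An.epsPull X) J (fun a ha => ?_) _ (q + 1)
    (fun l hl => b0 J l hl (q + 1) (Nat.succ_pos q)) m hm
  obtain ⟨P, π, hπ, hP⟩ := TorsionFree.exists_torsionFree_cover X.smallEtaleTopology a ha J
  exact ExtCmp.epi_nsmul_of_injective a π

/-- **Formal end**, all torsion sheaves. -/
theorem hc_bijective_of [CompactSpace X] [QuasiSeparatedSpace X]
    (a0 : ∀ F : EtCoh.Ab X, EtCoh.IsTorsion F → Function.Bijective (hc X F 0))
    (b0 : ∀ (J : EtCoh.Ab X) [Injective J] (l : ℕ), l.Prime → ∀ q : ℕ, 0 < q →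
      Subsingleton (Ext.{1} (An.Cl.const (An.Pts X) ℤ)
        ((An.epsPull X).obj (kernel (l • 𝟙 J))) q))
    (q : ℕ) (hT : ColimRep (An.Pts X) q)
    (F : EtCoh.Ab X) (hF : EtCoh.IsTorsion F) : Function.Bijective (hc X F q) := by
  obtain ⟨J, _, _, D, c, hcol, hD, ⟨e⟩⟩ := EtpbcA.TorsionColim.exists_filtered_consM
    EtpbcA.TorsionColim.dir_pos F (by
      intro U s x
      obtain ⟨V, g, ⟨v, hv⟩, h⟩ := hF U s x
      obtain ⟨n, hn, h0⟩ := isOfFinAddOrder_iff_nsmul_eq_zero.1 h
      exact ⟨V, g, v, hv, n, hn, h0⟩)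
  have hb : ∀ j, Function.Bijective (hc X (D.obj j) q) := by
    intro j
    obtain ⟨-, m, hm, hk⟩ := hD j
    have hm' : m ≠ 0 := (show 0 < m from hm).ne'
    have hk' := (TorsionFree.killedBy_iff m _).1 hk
    exact hc_bijective_of_killed X m hm' (fun F hF => a0 F (isTorsion_of_killed X m hm' hF)) b0
      (D.obj j) hk' q
  exact ⟨ExtCmp.injective_of_iso (An.epsPull X) _ e q (injective_colim hcol q hT fun j => (hb j).1),
    ExtCmp.surjective_of_iso (An.epsPull X) _ e q (surjective_colim hcol q hT fun j => (hb j).2)⟩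

end Groth.Agent.An.H894.FormalEnd
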