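import Groth.Agent.An.H894.Inputs

/-!
# Comparison with classical cohomology for proper schemes and torsion coefficients
-/

set_option autoImplicit false
attribute [-instance] AlgebraicGeometry.specOverSpec

open CategoryTheory CategoryTheory.Limits AlgebraicGeometry Opposite TopologicalSpace
open CategoryTheory.Abelian

namespace Groth.Agent.An.H894.Main

open Groth.Agent.An.H890.AcyFinal Groth.Agent.An.H890.Acy Groth.Agent.An.H894.FormalEnd
open Groth.Agent.EtpbcB.NKill Groth.Agent.An.H894.Inputs

attribute [local instance 3000] hasSheafify hasExt hasSheafifyCl hasExtCl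
attribute [local instance 5000] additive_epsPull

variable [Fact An.EtaleLH] (X : Scheme.{0}) [X.Over An.SC] [IsProper (X ↘ An.SC)] [An.EpsCont X]
  [PreservesFiniteLimits (An.epsPull X)]

/-- `H^q(X(ℂ), ε^* (J[ℓ])) = 0` for `X` proper over `ℂ`, `J` injective, `q > 0`. -/
theorem subsingleton_kernel (J : EtCoh.Ab X) [Injective J] (l : ℕ) (hl : l.Prime) (q : ℕ)
    (hq : 0 < q) : Subsingleton (Ext.{1} (An.Cl.const (An.Pts X) ℤ)
      ((An.epsPull X).obj (kernel (l • 𝟙 J))) q) := by
  have hnon : Nonempty (An.Pts An.SC) := ⟨H878.Point.point⟩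
  have hov : (X ↘ An.SC).IsOver An.SC := ⟨Category.comp_id _⟩
  exact (H890.PtHom.isZero_Rpush_pt_iff (An.Pts.mapC (X ↘ An.SC)) _ q).1
    (acyclic_tor (X ↘ An.SC) degZero acyP1 J hl.pos q hq)

/-- **The comparison theorem** for proper schemes and torsion sheaves. -/
theorem hc_bijective (F : EtCoh.Ab X) (hF : EtCoh.IsTorsion F) (q : ℕ) :
    Function.Bijective (hc X F q) := by
  have : IsNoetherian X := Curve.isNoetherian X
  exact hc_bijective_of X (fun F hF => hc_zero_bijective F (Curve.bijective_unit_of_isTorsion X F hF))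
    (fun J _ l hl q hq => subsingleton_kernel X J l hl q hq) q (Curve.colimRep X q) F hF

end Groth.Agent.An.H894.Main
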